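import Cfsg.Agent.Lib.Comp.JTb.T0
import Cfsg.Agent.Lib.Comp.JTb.T1

set_option maxRecDepth 100000
set_option Elab.async false

namespace Cfsg.Lib.Comp.JTb

universe u

theorem T1_ord : Ord.{u} iv T1_R [1,2,3,4,5,6] 32 :=
  (T1_idx.ord_base).of_cons (cons_of_subset (by decide +kernel))

theorem T0_ord : Ord.{u} iv T0_R [1,2,3,4,5,6,7,8,9,10] 1920 :=
  (T0_idx.ord_step T1_ord).of_cons (cons_of_subset (by decide +kernel))

theorem ord : Ord.{u} iv R L 1920 := T0_ord.of_cons (cons_of_subset (by decide +kernel))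

end Cfsg.Lib.Comp.JTb
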