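import Cfsg.Agent.Lib.Comp.JTb.Base

set_option maxRecDepth 100000
set_option Elab.async false

namespace Cfsg.Lib.Comp.JTb

universe u

noncomputable def T0_R : List (List ℕ × ℕ) := [([1],1),
 ([2],1),
 ([3],1),
 ([4],1),
 ([5],1),
 ([6],1),
 ([2,3,4,5,6],0),
 ([1,2],1),
 ([1,3],1),
 ([2,3,2,3,1],0),
 ([1,4],1),
 ([2,4,2,4,1],0),
 ([3,4,3,4,1],0),
 ([1,5],1),
 ([2,5,2,5,1],0),
 ([3,5,3,5,1],0),
 ([4,5,4,5,1],0),
 ([1,6],1),
 ([2,6,2,6,1],0),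
 ([3,6,3,6,1],0),
 ([4,6,4,6,1],0),
 ([5,6,5,6,1],0),
 ([1,8,1,7],0),
 ([7,2,8,2],0),
 ([7,3,8,6],0),
 ([7,4,8,5],0),
 ([7,5,8,4],0),
 ([7,6,8,3],0),
 ([1,10,1,9],0),
 ([9,2,10,3],0),
 ([9,3,10,4],0),
 ([9,4,10,2],0),
 ([9,5,10,5],0),
 ([9,6,10,6],0),
 ([9],2),
 ([7,9],4),
 ([7,7,1],0),
 ([7,8],0),
 ([9,10],0)]

noncomputable def T0_n_7 : Net :=
 (Net.cons 32 (nat_lit 0xcc000000)
 (Net.cons 16 (nat_lit 0xfc000000fc00)
 (Net.cons 8 (nat_lit 0xb8001800000030)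
 (Net.cons 4 (nat_lit 0x800040800000000)
 (Net.cons 2 (nat_lit 0x200000000)
 (Net.cons 1 (nat_lit 0x5555000400000411)
 (Net.cons 2 (nat_lit 0x1233122200000000)
 (Net.cons 4 (nat_lit 0x70904080000030c)
 (Net.cons 8 (nat_lit 0xb800d900ff0030)
 (Net.cons 16 (nat_lit 0xfc000000fc00)
 (Net.cons 32 (nat_lit 0xcc000000)
 Net.nil)))))))))))

noncomputable def T0_n_9 : Net :=
 (Net.cons 32 (nat_lit 0x108880a)
 (Net.cons 16 (nat_lit 0xf67800000002)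
 (Net.cons 8 (nat_lit 0x6200ba003c00ca)
 (Net.cons 4 (nat_lit 0x2080a0000000002)
 (Net.cons 2 (nat_lit 0x2200000020022000)
 (Net.cons 1 (nat_lit 0x1445140515511454)
 (Net.cons 2 (nat_lit 0x110010013300101)
 (Net.cons 4 (nat_lit 0x105080400090401)
 (Net.cons 8 (nat_lit 0x8400b500500080)
 (Net.cons 16 (nat_lit 0xfda500000101)
 (Net.cons 32 (nat_lit 0x8000151)
 Net.nil)))))))))))

noncomputable def T0_n : List Net := [Net.nil,
 Net.nil,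
 Net.nil,
 Net.nil,
 Net.nil,
 Net.nil,
 Net.nil,
 T0_n_7,
 Net.rev T0_n_7,
 T0_n_9,
 Net.rev T0_n_9]

theorem T0_n_ok : NetsOK 64 T0_n := netsOK_of (by decide +kernel)

theorem T0_n_rel : Rels (gp T0_n) T0_R := rels_of_relsB (k := 6) T0_n_ok (by norm_num) (by decide +kernel)

theorem T0_fin : finB 64 T0_n [1,2,3,4,5,6,7,8,9,10] 60 (runH 64 T0_n (fun x p => ptInv (nth Net.nil T0_n x) p) iv T0_R [] ([1,2,3,4,5,6].map fun x => [x]) 0 []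
  (apd [1,5,9,13,17,21,144,148,152,88,92,96,100,112,116,120,124,128,132,136,144,148,152,88,92,96,100,112,116,120,124,128,132,144,148,88,92,96,100,112,116,120,124,128,132,140,144,148,152,88,92,96,100,112,116,120,124,128,132,136]
 [140,144,148,152,88,92,96,100,112,116,120,124,128,132,140,152,136,140,148,152])
  (defsH 64 T0_n (ones 704) [7,9,10,7,9,10,7,9,10,7,9,10,7,9] (Nat.shiftLeft 1 0) 0)) = true := by decide +kernel

theorem T0_idx : Idx.{u} iv (T0_R ++ []) ([1,2,3,4,5,6].map fun x => [x]) [1,2,3,4,5,6,7,8,9,10] 60 :=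
  Reach.idx T0_n_ok (reach_runH T0_n_ok (fun x p _ => ptInv_gp T0_n_ok x p) T0_n_rel (reach_defsH T0_n_ok _ _ _ _ _ _) _ _) T0_fin (by norm_num)

end Cfsg.Lib.Comp.JTb
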